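import Mathlib.Algebra.Homology.ShortComplex.Ab
import Mathlib.Algebra.Homology.ConcreteCategory
import Mathlib.Algebra.Homology.QuasiIso
import Mathlib.Algebra.Category.Grp.Abelian

/-!
# Element-wise criterion for quasi-isomorphisms of chain complexes of abelian groups
-/

set_option autoImplicit false

universe u

open CategoryTheory CategoryTheory.Limits HomologicalComplex

namespace GrothLib.SimpGrp

variable {K L : ChainComplex AddCommGrpCat.{u} ℕ} (φ : K ⟶ L)

theorem exists_cycle {n : ℕ} {x : K.X n} (hx : K.d n ((ComplexShape.down ℕ).next n) x = 0) :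
    ∃ z : K.cycles n, K.iCycles n z = x := by
  have hex : (ShortComplex.mk (K.iCycles n) (K.d n ((ComplexShape.down ℕ).next n))
      (K.iCycles_d n ((ComplexShape.down ℕ).next n))).Exact :=
    ShortComplex.exact_of_f_is_kernel _ (K.cyclesIsKernel n _ rfl)
  exact (ShortComplex.ab_exact_iff _).1 hex x hx

theorem iCycles_injective (K : ChainComplex AddCommGrpCat.{u} ℕ) (n : ℕ) :
    Function.Injective (K.iCycles n) :=
  (AddCommGrpCat.mono_iff_injective (K.iCycles n)).1 inferInstance

theorem homologyπ_eq_zero (K : ChainComplex AddCommGrpCat.{u} ℕ) {n : ℕ} (z : K.cycles n) :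
    K.homologyπ n z = 0 ↔ ∃ w : K.X (n + 1), K.d (n + 1) n w = K.iCycles n z := by
  have hex : (ShortComplex.mk (K.toCycles (n + 1) n) (K.homologyπ n)
      (K.toCycles_comp_homologyπ (n + 1) n)).Exact :=
    ShortComplex.exact_of_g_is_cokernel _ (K.homologyIsCokernel (n + 1) n (by simp))
  constructor
  · intro h
    obtain ⟨w, hw⟩ := (ShortComplex.ab_exact_iff _).1 hex z h
    exact ⟨w, by rw [← hw, ← ConcreteCategory.comp_apply, HomologicalComplex.toCycles_i]⟩
  · rintro ⟨w, hw⟩
    have : K.toCycles (n + 1) n w = z := iCycles_injective K n (by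
      rw [← ConcreteCategory.comp_apply, HomologicalComplex.toCycles_i, hw])
    rw [← this, ← ConcreteCategory.comp_apply, HomologicalComplex.toCycles_comp_homologyπ]
    rfl

theorem homologyπ_surjective (K : ChainComplex AddCommGrpCat.{u} ℕ) (n : ℕ) :
    Function.Surjective (K.homologyπ n) :=
  (AddCommGrpCat.epi_iff_surjective (K.homologyπ n)).1 inferInstance

theorem iCycles_cyclesMap (n : ℕ) (z : K.cycles n) :
    L.iCycles n (cyclesMap φ n z) = φ.f n (K.iCycles n z) := by
  rw [← ConcreteCategory.comp_apply, cyclesMap_i, ConcreteCategory.comp_apply]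

theorem homologyMap_π (n : ℕ) (z : K.cycles n) :
    homologyMap φ n (K.homologyπ n z) = L.homologyπ n (cyclesMap φ n z) := by
  rw [← ConcreteCategory.comp_apply, homologyπ_naturality, ConcreteCategory.comp_apply]

theorem injective_of_quasiIso [QuasiIso φ] {n : ℕ} {x : K.X n}
    (hx : K.d n ((ComplexShape.down ℕ).next n) x = 0) {w : L.X (n + 1)} (hw : L.d (n + 1) n w = φ.f n x) :
    ∃ a : K.X (n + 1), K.d (n + 1) n a = x := by
  obtain ⟨z, hz⟩ := exists_cycle hx
  have hb := (ConcreteCategory.isIso_iff_bijective _).1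
    ((quasiIsoAt_iff_isIso_homologyMap φ n).1 inferInstance)
  have h0 : homologyMap φ n (K.homologyπ n z) = 0 := by
    rw [homologyMap_π, homologyπ_eq_zero]
    exact ⟨w, by rw [iCycles_cyclesMap, hz, hw]⟩
  obtain ⟨a, ha⟩ := (homologyπ_eq_zero K z).1 (hb.1 (h0.trans (map_zero (homologyMap φ n).hom).symm))
  exact ⟨a, ha.trans hz⟩

theorem surjective_of_quasiIso [QuasiIso φ] {n : ℕ} {y : L.X n}
    (hy : L.d n ((ComplexShape.down ℕ).next n) y = 0) :
    ∃ (x : K.X n) (_ : K.d n ((ComplexShape.down ℕ).next n) x = 0) (b : L.X (n + 1)),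
      L.d (n + 1) n b = φ.f n x - y := by
  obtain ⟨z', hz'⟩ := exists_cycle hy
  have hb := (ConcreteCategory.isIso_iff_bijective _).1
    ((quasiIsoAt_iff_isIso_homologyMap φ n).1 inferInstance)
  obtain ⟨h, hh⟩ := hb.2 (L.homologyπ n z')
  obtain ⟨z, rfl⟩ := homologyπ_surjective K n h
  have h0 : L.homologyπ n (cyclesMap φ n z - z') = 0 := by
    rw [map_sub, ← homologyMap_π, hh, sub_self]
  obtain ⟨b, hb'⟩ := (homologyπ_eq_zero L _).1 h0
  refine ⟨K.iCycles n z, ?_, b, ?_⟩
  · rw [← ConcreteCategory.comp_apply, iCycles_d]; rfl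
  · rw [hb', map_sub, iCycles_cyclesMap, hz']

theorem quasiIso_of_elements
    (hinj : ∀ (n : ℕ) (x : K.X n), K.d n ((ComplexShape.down ℕ).next n) x = 0 →
      ∀ w : L.X (n + 1), L.d (n + 1) n w = φ.f n x → ∃ a : K.X (n + 1), K.d (n + 1) n a = x)
    (hsurj : ∀ (n : ℕ) (y : L.X n), L.d n ((ComplexShape.down ℕ).next n) y = 0 →
      ∃ (x : K.X n) (_ : K.d n ((ComplexShape.down ℕ).next n) x = 0) (b : L.X (n + 1)),
        L.d (n + 1) n b = φ.f n x - y) : QuasiIso φ := by
  refine ⟨fun n => (quasiIsoAt_iff_isIso_homologyMap φ n).2 ((ConcreteCategory.isIso_iff_bijective _).2 ⟨?_, ?_⟩)⟩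
  · rw [injective_iff_map_eq_zero]
    intro h hh
    obtain ⟨z, rfl⟩ := homologyπ_surjective K n h
    rw [homologyMap_π, homologyπ_eq_zero] at hh
    obtain ⟨w, hw⟩ := hh
    rw [iCycles_cyclesMap] at hw
    exact (homologyπ_eq_zero K z).2 (hinj n _ (by rw [← ConcreteCategory.comp_apply, iCycles_d]; rfl) w hw)
  · intro h
    obtain ⟨z', rfl⟩ := homologyπ_surjective L n h
    obtain ⟨x, hx, b, hb⟩ := hsurj n (L.iCycles n z') (by rw [← ConcreteCategory.comp_apply, iCycles_d]; rfl)
    obtain ⟨z, hz⟩ := exists_cycle hx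
    refine ⟨K.homologyπ n z, ?_⟩
    rw [homologyMap_π, ← sub_eq_zero, ← map_sub, homologyπ_eq_zero]
    exact ⟨b, by rw [hb, map_sub, iCycles_cyclesMap, hz]⟩

end GrothLib.SimpGrp
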