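import Groth.Agent.Lib.SimpGrp.Normalized
import Mathlib.AlgebraicTopology.SimplicialSet.Homotopy

/-!
# Homotopy equivalences of simplicial abelian groups are quasi-isomorphisms
-/

set_option autoImplicit false

universe u

open CategoryTheory CategoryTheory.Limits Opposite Simplicial AlgebraicTopology

namespace GrothLib.SimpGrp

variable {X Y : SimplicialObject AddCommGrpCat.{u}}

/-- The underlying simplicial set. -/
abbrev US (X : SimplicialObject AddCommGrpCat.{u}) : SSet.{u} := X ⋙ forget AddCommGrpCat.{u}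

/-- A map of underlying simplicial sets, normalized to preserve zero. -/
def tilde (φ : US X ⟶ US Y) (n : ℕ) (a : X _⦋n⦌) : Y _⦋n⦌ :=
  HSub.hSub (α := Y _⦋n⦌) (β := Y _⦋n⦌) (φ.app (op ⦋n⦌) a) (φ.app (op ⦋n⦌) (0 : X _⦋n⦌))

theorem tilde_zero (φ : US X ⟶ US Y) (n : ℕ) : tilde φ n 0 = 0 := sub_self _

theorem δ_tilde (φ : US X ⟶ US Y) {n : ℕ} (i : Fin (n + 2)) (a : X _⦋n + 1⦌) :
    Y.δ i (tilde φ (n + 1) a) = tilde φ n (X.δ i a) := by
  unfold tilde
  rw [map_sub]
  congr 1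
  · exact (NatTrans.naturality_apply φ (SimplexCategory.δ i).op a).symm
  · exact (NatTrans.naturality_apply φ (SimplexCategory.δ i).op (0 : X _⦋n + 1⦌)).symm.trans
      (congrArg (φ.app (op ⦋n⦌)) (map_zero (X.δ i).hom))

theorem isNorm_tilde (φ : US X ⟶ US Y) {n : ℕ} {a : X _⦋n + 1⦌} (ha : IsNorm X a) :
    IsNorm Y (tilde φ (n + 1) a) := fun i => by rw [δ_tilde, ha i, tilde_zero]

theorem isSphere_tilde (φ : US X ⟶ US Y) {n : ℕ} {a : X _⦋n⦌} (ha : IsSphere X a) :
    IsSphere Y (tilde φ n a) := by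
  cases n with
  | zero => trivial
  | succ n => exact fun i => by rw [δ_tilde, ha i, tilde_zero]

theorem boundary_of_homotopy {φ ψ : US X ⟶ US Y} (H : SimplicialObject.Homotopy φ ψ) {n : ℕ}
    {z : X _⦋n⦌} (hz : IsSphere X z) :
    ∃ w : Y _⦋n + 1⦌, ((alternatingFaceMapComplex AddCommGrpCat.{u}).obj Y).d (n + 1) n w =
      tilde ψ n z - tilde φ n z := by
  let hh : Fin (n + 1) → X _⦋n⦌ → Y _⦋n + 1⦌ := fun i a => H.h i a
  let k : Fin (n + 1) → Y _⦋n + 1⦌ := fun i => hh i z - hh i 0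
  have hA : Y.δ 0 (k 0) = tilde ψ n z := by
    simp only [k, map_sub]
    unfold tilde
    congr 1
    · exact ConcreteCategory.congr_hom (H.h_zero_comp_δ_zero n) z
    · exact ConcreteCategory.congr_hom (H.h_zero_comp_δ_zero n) (0 : X _⦋n⦌)
  have hB : Y.δ (Fin.last (n + 1)) (k (Fin.last n)) = tilde φ n z := by
    simp only [k, map_sub]
    unfold tilde
    congr 1
    · exact ConcreteCategory.congr_hom (H.h_last_comp_δ_last n) z
    · exact ConcreteCategory.congr_hom (H.h_last_comp_δ_last n) (0 : X _⦋n⦌)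
  have hC : ∀ j : Fin n, Y.δ j.castSucc.succ (k j.succ) = Y.δ j.castSucc.succ (k j.castSucc) := by
    intro j
    cases n with
    | zero => exact j.elim0
    | succ m =>
      simp only [k, map_sub]
      congr 1
      · exact ConcreteCategory.congr_hom (H.h_succ_comp_δ_castSucc_succ j) z
      · exact ConcreteCategory.congr_hom (H.h_succ_comp_δ_castSucc_succ j) (0 : X _⦋m + 1⦌)
  have hD : ∀ (i : Fin (n + 1)) (j : Fin (n + 2)), j ≠ i.castSucc → j ≠ i.succ → Y.δ j (k i) = 0 := by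
    intro i j h1 h2
    have h1' : j.val ≠ i.val := fun e => h1 (Fin.ext e)
    have h2' : j.val ≠ i.val + 1 := fun e => h2 (Fin.ext e)
    cases n with
    | zero => omega
    | succ m =>
      simp only [k, map_sub, sub_eq_zero]
      by_cases hlt : j.val < i.val
      · obtain ⟨i', rfl⟩ : ∃ i' : Fin (m + 1), i'.succ = i :=
          ⟨⟨i.val - 1, by omega⟩, Fin.ext (by simp; omega)⟩
        obtain ⟨j', rfl⟩ : ∃ j' : Fin (m + 2), j'.castSucc = j := ⟨⟨j.val, by omega⟩, rfl⟩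
        have e := H.h_succ_comp_δ_castSucc_of_lt j' i'
          (by simp at hlt; simp [← Fin.val_fin_le]; omega)
        refine (ConcreteCategory.congr_hom e z).trans (Eq.trans ?_ (ConcreteCategory.congr_hom e (0 : X _⦋m + 1⦌)).symm)
        exact congrArg (H.h i') ((hz j').trans (map_zero (X.δ j').hom).symm)
      · obtain ⟨i', rfl⟩ : ∃ i' : Fin (m + 1), i'.castSucc = i := ⟨⟨i.val, by omega⟩, rfl⟩
        obtain ⟨j', rfl⟩ : ∃ j' : Fin (m + 2), j'.succ = j :=
          ⟨⟨j.val - 1, by omega⟩, Fin.ext (by simp at h1' h2' hlt ⊢; omega)⟩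
        have e := H.h_castSucc_comp_δ_succ_of_lt j' i'
          (by simp at h1' h2' hlt; simp [← Fin.val_fin_lt]; omega)
        refine (ConcreteCategory.congr_hom e z).trans (Eq.trans ?_ (ConcreteCategory.congr_hom e (0 : X _⦋m + 1⦌)).symm)
        exact congrArg (H.h i') ((hz j').trans (map_zero (X.δ j').hom).symm)
  have hd : ∀ i : Fin (n + 1), ((alternatingFaceMapComplex AddCommGrpCat.{u}).obj Y).d (n + 1) n (k i) =
      (-1 : ℤ) ^ (i : ℕ) • (Y.δ i.castSucc (k i) - Y.δ i.succ (k i)) := by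
    intro i
    rw [d_apply, Finset.sum_eq_add i.castSucc i.succ (fun e => by simpa using congrArg Fin.val e)
      (fun j _ hj => by rw [hD i j hj.1 hj.2, smul_zero]) (fun h => absurd (Finset.mem_univ _) h)
      (fun h => absurd (Finset.mem_univ _) h)]
    rw [Fin.val_castSucc, Fin.val_succ, pow_succ, mul_neg, mul_one, neg_smul, smul_sub, sub_eq_add_neg]
  refine ⟨∑ i : Fin (n + 1), (-1 : ℤ) ^ (i : ℕ) • k i, ?_⟩
  rw [map_sum]
  simp only [map_zsmul, hd, smul_smul, ← pow_add, ← two_mul, pow_mul, neg_one_sq, one_pow, one_smul]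
  rw [Finset.sum_sub_distrib, Fin.sum_univ_succ, Fin.sum_univ_castSucc (f := fun i => Y.δ i.succ (k i))]
  simp only [Fin.castSucc_zero, Fin.succ_last, hA, hB]
  rw [Finset.sum_congr rfl (fun j _ => show Y.δ j.succ.castSucc (k j.succ) = Y.δ j.castSucc.succ (k j.castSucc) by
    rw [← Fin.succ_castSucc]; exact hC j)]
  exact (fun a S b => by abel : ∀ a S b : Y _⦋n⦌, a + S - (S + b) = a - b) _ _ _

theorem boundary_of_homotopic {φ ψ : US X ⟶ US Y}
    (h : Nonempty (SSet.Homotopy φ ψ) ∨ Nonempty (SSet.Homotopy ψ φ)) {n : ℕ} {z : X _⦋n⦌} (hz : IsSphere X z) :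
    ∃ w : Y _⦋n + 1⦌, ((alternatingFaceMapComplex AddCommGrpCat.{u}).obj Y).d (n + 1) n w =
      tilde φ n z - tilde ψ n z := by
  rcases h with ⟨⟨H⟩⟩ | ⟨⟨H⟩⟩
  · obtain ⟨w, hw⟩ := boundary_of_homotopy H.toSimplicialObjectHomotopy hz
    exact ⟨-w, by rw [map_neg, hw, neg_sub]⟩
  · exact boundary_of_homotopy H.toSimplicialObjectHomotopy hz

theorem tilde_id (n : ℕ) (a : X _⦋n⦌) : tilde (𝟙 (US X)) n a = a := sub_zero a

theorem quasiIso_of_homotopyEquiv (f : X ⟶ Y) (g : US Y ⟶ US X)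
    (hX : Nonempty (SSet.Homotopy (Functor.whiskerRight f (forget AddCommGrpCat.{u}) ≫ g) (𝟙 _)) ∨
      Nonempty (SSet.Homotopy (𝟙 _) (Functor.whiskerRight f (forget AddCommGrpCat.{u}) ≫ g)))
    (hY : Nonempty (SSet.Homotopy (g ≫ Functor.whiskerRight f (forget AddCommGrpCat.{u})) (𝟙 _)) ∨
      Nonempty (SSet.Homotopy (𝟙 _) (g ≫ Functor.whiskerRight f (forget AddCommGrpCat.{u})))) :
    QuasiIso ((alternatingFaceMapComplex AddCommGrpCat.{u}).map f) := by
  refine quasiIso_of_spheres f (fun n z hz v hv hv0 => ?_) (fun n y hy => ?_)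
  · obtain ⟨w, hw⟩ := boundary_of_homotopic hX hz
    refine ⟨tilde g (n + 1) v - w, ?_⟩
    rw [map_sub, d_of_norm (isNorm_tilde g hv), δ_tilde, hv0, hw, tilde_id]
    have e : tilde (Functor.whiskerRight f (forget AddCommGrpCat.{u}) ≫ g) n z = tilde g n (f.app (op ⦋n⦌) z) := by
      unfold tilde
      congr 1
      exact congrArg (g.app (op ⦋n⦌)) (map_zero (f.app (op ⦋n⦌)).hom)
    rw [e, sub_sub_cancel]
  · obtain ⟨w, hw⟩ := boundary_of_homotopic hY hy
    refine ⟨tilde g n y, w, isSphere_tilde g hy, ?_⟩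
    rw [hw, tilde_id]
    congr 1
    exact (map_sub (f.app (op ⦋n⦌)).hom _ _).symm

end GrothLib.SimpGrp
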