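import Mathlib.AlgebraicTopology.SimplicialSet.CategoryWithFibrations
import Mathlib.AlgebraicTopology.SimplicialSet.KanComplex
import Mathlib.Algebra.Category.Grp.Basic
import Mathlib.Algebra.Group.Subgroup.Ker

/-!
# Moore's theorem: surjections of simplicial groups are Kan fibrations
-/

set_option autoImplicit false

universe u

open CategoryTheory Limits Opposite Simplicial

namespace GrothLib.SimpGrp

variable (X : SimplicialObject GrpCat.{u})

/-- A family of subgroups stable under faces and degeneracies. -/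
structure Stable (P : ∀ n : ℕ, Subgroup (X _⦋n⦌)) : Prop where
  δ_mem : ∀ (n : ℕ) (i : Fin (n + 2)) (x : X _⦋n + 1⦌), x ∈ P (n + 1) → X.δ i x ∈ P n
  σ_mem : ∀ (n : ℕ) (i : Fin (n + 1)) (x : X _⦋n⦌), x ∈ P n → X.σ i x ∈ P (n + 1)

variable {X}

theorem dd {m : ℕ} {a b : Fin (m + 2)} (h : a ≤ b) (w : X _⦋m + 2⦌) :
    X.δ a (X.δ b.succ w) = X.δ b (X.δ a.castSucc w) :=
  ConcreteCategory.congr_hom (X.δ_comp_δ h) w

theorem exists_low {P : ∀ n : ℕ, Subgroup (X _⦋n⦌)} (hP : Stable X P) {m : ℕ} (k : Fin (m + 3))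
    (x : Fin (m + 3) → X _⦋m + 1⦌) (hx : ∀ j, j ≠ k → x j ∈ P (m + 1))
    (hc : ∀ a b : Fin (m + 2), a ≤ b → a.castSucc ≠ k → b.succ ≠ k → X.δ a (x b.succ) = X.δ b (x a.castSucc))
    (t : ℕ) (ht : t ≤ k.val) :
    ∃ w ∈ P (m + 2), ∀ i : Fin (m + 3), i.val < t → X.δ i w = x i := by
  induction t with
  | zero => exact ⟨1, one_mem _, fun i hi => absurd hi (Nat.not_lt_zero _)⟩
  | succ t ih =>
    obtain ⟨w, hw, h⟩ := ih (by omega)
    let j : Fin (m + 2) := ⟨t, by omega⟩
    have hj : j.castSucc ≠ k := fun e => by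
      have := congrArg Fin.val e
      simp [j] at this; omega
    let u : X _⦋m + 1⦌ := (X.δ j.castSucc w)⁻¹ * x j.castSucc
    have hu : u ∈ P (m + 1) := mul_mem (inv_mem (hP.δ_mem _ _ _ hw)) (hx _ hj)
    have hdu : ∀ a : Fin (m + 2), a.val < t → X.δ a u = 1 := fun a ha => by
      let b : Fin (m + 2) := ⟨t - 1, by omega⟩
      have hb : b.succ = j.castSucc := Fin.ext (by simp [b, j]; omega)
      have hab : a ≤ b := by simp [← Fin.val_fin_le, b]; omega
      have ha' : a.castSucc ≠ k := fun e => by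
        have := congrArg Fin.val e
        simp at this; omega
      simp only [u, map_mul, map_inv]
      rw [← hb, dd hab, h a.castSucc (by simpa using ha), hc a b hab ha' (hb ▸ hj), inv_mul_cancel]
    refine ⟨w * X.σ j u, mul_mem hw (hP.σ_mem _ _ _ hu), fun i hi => ?_⟩
    rw [map_mul]
    rcases Nat.lt_succ_iff_lt_or_eq.1 hi with hi | hi
    · obtain ⟨a, rfl⟩ : ∃ a : Fin (m + 2), a.castSucc = i := ⟨⟨i.val, by omega⟩, rfl⟩
      let q : Fin (m + 1) := ⟨t - 1, by simp at hi; omega⟩
      have hq : q.succ = j := Fin.ext (by simp [q, j]; simp at hi; omega)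
      have := ConcreteCategory.congr_hom (X.δ_comp_σ_of_le (i := a) (j := q)
        (by simp [← Fin.val_fin_le, q]; simp at hi; omega)) u
      rw [hq] at this
      change X.δ a.castSucc (X.σ j u) = X.σ q (X.δ a u) at this
      rw [this, hdu a (by simpa using hi), map_one, mul_one, h _ (by simpa using hi)]
    · have e : i = j.castSucc := Fin.ext (by simpa [j] using hi)
      subst e
      have := ConcreteCategory.congr_hom (X.δ_comp_σ_self (i := j)) u
      change X.δ j.castSucc (X.σ j u) = u at this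
      rw [this]
      simp [u]

theorem exists_high {P : ∀ n : ℕ, Subgroup (X _⦋n⦌)} (hP : Stable X P) {m : ℕ} (k : Fin (m + 3))
    (x : Fin (m + 3) → X _⦋m + 1⦌) (hx : ∀ j, j ≠ k → x j ∈ P (m + 1))
    (hc : ∀ a b : Fin (m + 2), a ≤ b → a.castSucc ≠ k → b.succ ≠ k → X.δ a (x b.succ) = X.δ b (x a.castSucc))
    (s : ℕ) :
    ∃ w ∈ P (m + 2), ∀ i : Fin (m + 3), i ≠ k → (i < k ∨ m + 2 < i.val + s) → X.δ i w = x i := by
  induction s with
  | zero =>
    obtain ⟨w, hw, h⟩ := exists_low hP k x hx hc k.val le_rfl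
    exact ⟨w, hw, fun i _ hi => h i (hi.resolve_right (by omega))⟩
  | succ s ih =>
    obtain ⟨w, hw, h⟩ := ih
    by_cases hs : k.val < m + 2 - s
    swap
    · refine ⟨w, hw, fun i hik hi => h i hik ?_⟩
      have : i.val ≠ k.val := fun e => hik (Fin.ext e)
      rcases hi with hi | hi
      · exact Or.inl hi
      · by_cases hik' : i.val < k.val
        · exact Or.inl hik'
        · exact Or.inr (by omega)
    let p : Fin (m + 2) := ⟨m + 1 - s, by omega⟩
    have hpv : p.val + 1 = m + 2 - s := by simp [p]; omega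
    have hj : p.succ ≠ k := fun e => by
      have := congrArg Fin.val e
      simp at this; omega
    let u : X _⦋m + 1⦌ := (X.δ p.succ w)⁻¹ * x p.succ
    have hu : u ∈ P (m + 1) := mul_mem (inv_mem (hP.δ_mem _ _ _ hw)) (hx _ hj)
    have hdu : ∀ a : Fin (m + 2), a.val < k.val ∨ p.val < a.val → X.δ a u = 1 := fun a ha => by
      simp only [u, map_mul, map_inv]
      rcases ha with ha | ha
      · have hab : a ≤ p := by simp [← Fin.val_fin_le]; omega
        have ha' : a.castSucc ≠ k := fun e => by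
          have := congrArg Fin.val e
          simp at this; omega
        rw [dd hab, h a.castSucc ha' (Or.inl (by simpa [← Fin.val_fin_lt] using ha)), hc a p hab ha' hj, inv_mul_cancel]
      · let b : Fin (m + 2) := ⟨p.val + 1, by omega⟩
        have hb : b.castSucc = p.succ := Fin.ext (by simp [b])
        have hba : b ≤ a := by simp [← Fin.val_fin_le, b]; omega
        have ha' : a.succ ≠ k := fun e => by
          have := congrArg Fin.val e
          simp at this; omega
        rw [← hb, ← dd hba, h a.succ ha' (Or.inr (by simp; omega)), hc b a hba (hb ▸ hj) ha', inv_mul_cancel]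
    refine ⟨w * X.σ p u, mul_mem hw (hP.σ_mem _ _ _ hu), fun i hik hi => ?_⟩
    rw [map_mul]
    by_cases hip : i = p.succ
    · subst hip
      have := ConcreteCategory.congr_hom (X.δ_comp_σ_succ (i := p)) u
      change X.δ p.succ (X.σ p u) = u at this
      rw [this]
      simp [u]
    have hne : i.val ≠ p.val + 1 := fun e => hip (Fin.ext (by simpa using e))
    rw [h i hik (hi.imp id (fun hi => by omega))]
    by_cases hik' : i.val < k.val
    · obtain ⟨a, rfl⟩ : ∃ a : Fin (m + 2), a.castSucc = i := ⟨⟨i.val, by omega⟩, rfl⟩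
      simp at hik'
      let q : Fin (m + 1) := ⟨p.val - 1, by omega⟩
      have hq : q.succ = p := Fin.ext (by simp [q]; omega)
      have := ConcreteCategory.congr_hom (X.δ_comp_σ_of_le (i := a) (j := q)
        (by simp [← Fin.val_fin_le, q]; omega)) u
      rw [hq] at this
      change X.δ a.castSucc (X.σ p u) = X.σ q (X.δ a u) at this
      rw [this, hdu a (Or.inl hik'), map_one, mul_one]
    · have hgt : p.val + 1 < i.val := by
        rcases hi with hi | hi
        · exact absurd hi hik'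
        · omega
      obtain ⟨a, rfl⟩ : ∃ a : Fin (m + 2), a.succ = i := ⟨⟨i.val - 1, by omega⟩, Fin.ext (by simp; omega)⟩
      simp at hgt
      let q : Fin (m + 1) := ⟨p.val, by omega⟩
      have hq : q.castSucc = p := Fin.ext (by simp [q])
      have := ConcreteCategory.congr_hom (X.δ_comp_σ_of_gt (i := a) (j := q)
        (by simp [← Fin.val_fin_lt, q]; omega)) u
      rw [hq] at this
      change X.δ a.succ (X.σ p u) = X.σ q (X.δ a u) at this
      rw [this, hdu a (Or.inr hgt), map_one, mul_one]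

theorem exists_filler {P : ∀ n : ℕ, Subgroup (X _⦋n⦌)} (hP : Stable X P) {n : ℕ} (k : Fin (n + 2))
    (x : Fin (n + 2) → X _⦋n⦌) (hx : ∀ j, j ≠ k → x j ∈ P n)
    (hc : ∀ (m : ℕ) (e : m + 1 = n) (a b : Fin (m + 2)),
      a ≤ b → (a.castSucc.cast (by omega) : Fin (n + 2)) ≠ k → (b.succ.cast (by omega) : Fin (n + 2)) ≠ k →
      X.δ a (e ▸ x (b.succ.cast (by omega))) = X.δ b (e ▸ x (a.castSucc.cast (by omega)))) :
    ∃ w ∈ P (n + 1), ∀ j, j ≠ k → X.δ j w = x j := by
  obtain _ | m := n
  · obtain ⟨j₀, hj₀, huniq⟩ : ∃ j₀ : Fin 2, j₀ ≠ k ∧ ∀ j, j ≠ k → j = j₀ :=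
      (by decide : ∀ k : Fin 2, ∃ j₀, j₀ ≠ k ∧ ∀ j, j ≠ k → j = j₀) k
    refine ⟨X.σ 0 (x j₀), hP.σ_mem _ _ _ (hx _ hj₀), fun j hj => ?_⟩
    obtain rfl := huniq j hj
    fin_cases j
    · exact ConcreteCategory.congr_hom (X.δ_comp_σ_self (i := 0)) _
    · exact ConcreteCategory.congr_hom (X.δ_comp_σ_succ (i := 0)) _
  · obtain ⟨w, hw, h⟩ := exists_high hP k x hx (fun a b hab ha hb => hc m rfl a b hab ha hb) (m + 3)
    exact ⟨w, hw, fun j hj => h j hj (Or.inr (by omega))⟩

/-- The kernel of a morphism of simplicial groups is stable. -/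
theorem stable_ker {X Y : SimplicialObject GrpCat.{u}} (f : X ⟶ Y) :
    Stable X (fun n => (f.app (op ⦋n⦌)).hom.ker) where
  δ_mem n i x hx := by
    simp only [MonoidHom.mem_ker] at hx ⊢
    exact (NatTrans.naturality_apply f (SimplexCategory.δ i).op x).trans ((congrArg _ hx).trans (map_one _))
  σ_mem n i x hx := by
    simp only [MonoidHom.mem_ker] at hx ⊢
    exact (NatTrans.naturality_apply f (SimplexCategory.σ i).op x).trans ((congrArg _ hx).trans (map_one _))

theorem hasLiftingProperty_of_surjective {X Y : SimplicialObject GrpCat.{u}} (f : X ⟶ Y)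
    (hf : ∀ n : SimplexCategoryᵒᵖ, Function.Surjective (f.app n)) (n : ℕ) (k : Fin (n + 2)) :
    HasLiftingProperty (Λ[n + 1, k] : (Δ[n + 1] : SSet.{u}).Subcomplex).ι
      (Functor.whiskerRight f (forget GrpCat.{u})) := by
  classical
  refine ⟨fun {a b} sq => ?_⟩
  let y : Y _⦋n + 1⦌ := SSet.yonedaEquiv b
  obtain ⟨x₀, hx₀⟩ := hf _ y
  let v : ∀ j, j ≠ k → X _⦋n⦌ := fun j hj => a.app (op ⦋n⦌) (SSet.horn.face k j hj)
  have hv : ∀ j (hj : j ≠ k), f.app (op ⦋n⦌) (v j hj) = Y.δ j y := by
    intro j hj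
    refine (ConcreteCategory.congr_hom (NatTrans.congr_app sq.w (op ⦋n⦌)) (SSet.horn.face k j hj)).trans ?_
    refine (congrArg (b.app (op ⦋n⦌)) ?_).trans
      (NatTrans.naturality_apply b (SimplexCategory.δ j).op (SSet.stdSimplex.objEquiv.symm (𝟙 _)))
    apply SSet.stdSimplex.objEquiv.injective
    rfl
  let x : Fin (n + 2) → X _⦋n⦌ := fun j => if hj : j ≠ k then (X.δ j x₀)⁻¹ * v j hj else 1
  obtain ⟨w, hw, hwd⟩ := exists_filler (stable_ker f) k x (fun j hj => by
      simp only [x, dif_pos hj, MonoidHom.mem_ker, map_mul, map_inv]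
      rw [show (f.app (op ⦋n⦌)).hom (v j hj) = Y.δ j y from hv j hj, ← hx₀]
      exact (congrArg (fun z => z⁻¹ * _) (NatTrans.naturality_apply f (SimplexCategory.δ j).op x₀)).trans
        (inv_mul_cancel _))
    (by
      rintro m rfl p q hpq hp hq
      simp only [Fin.cast_eq_self] at hp hq ⊢
      simp only [x, dif_pos hp, dif_pos hq, map_mul, map_inv]
      rw [dd hpq]
      congr 1
      refine (NatTrans.naturality_apply a (SimplexCategory.δ p).op _).symm.trans
        (Eq.trans ?_ (NatTrans.naturality_apply a (SimplexCategory.δ q).op _))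
      refine congrArg (a.app _) (Subtype.ext ?_)
      apply SSet.stdSimplex.objEquiv.injective
      exact SimplexCategory.δ_comp_δ hpq)
  refine CommSq.HasLift.mk' ⟨SSet.yonedaEquiv.symm (x₀ * w), SSet.horn.hom_ext _ _ (fun j hj => ?_), ?_⟩
  · refine Eq.trans ?_ (show X.δ j (x₀ * w) = v j hj by
      rw [map_mul, hwd j hj]; simp [x, hj])
    rfl
  · apply SSet.yonedaEquiv.injective
    rw [SSet.yonedaEquiv_symm_comp, Equiv.apply_symm_apply]
    change f.app _ (x₀ * w) = y
    rw [map_mul, hx₀, MonoidHom.mem_ker.1 hw, mul_one]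

theorem rlp_of_surjective {X Y : SimplicialObject GrpCat.{u}} (f : X ⟶ Y)
    (hf : ∀ n : SimplexCategoryᵒᵖ, Function.Surjective (f.app n)) :
    SSet.modelCategoryQuillen.J.rlp (X := X ⋙ forget GrpCat.{u}) (Y := Y ⋙ forget GrpCat.{u})
      (Functor.whiskerRight f (forget GrpCat.{u})) := by
  intro _ _ g hg
  simp only [SSet.modelCategoryQuillen.J, MorphismProperty.iSup_iff] at hg
  obtain ⟨n, ⟨k⟩⟩ := hg
  exact hasLiftingProperty_of_surjective f hf n k

end GrothLib.SimpGrp
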