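import Groth.Agent.Lib.SimpGrp.AbHomology
import Mathlib.AlgebraicTopology.DoldKan.HomotopyEquivalence

/-!
# Normalized cycles of simplicial abelian groups
-/

set_option autoImplicit false

universe u

open CategoryTheory CategoryTheory.Limits Opposite Simplicial AlgebraicTopology AlgebraicTopology.DoldKan

namespace GrothLib.SimpGrp

variable (X : SimplicialObject AddCommGrpCat.{u})

/-- all faces vanish -/
def IsSphere : ∀ {n : ℕ}, X _⦋n⦌ → Prop
  | 0, _ => True
  | n + 1, x => ∀ i : Fin (n + 2), X.δ i x = 0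

/-- all faces but the zeroth vanish -/
def IsNorm {n : ℕ} (x : X _⦋n + 1⦌) : Prop := ∀ i : Fin (n + 1), X.δ i.succ x = 0

/-- the normalized subgroup -/
noncomputable def norm (n : ℕ) : AddSubgroup (X _⦋n + 1⦌) :=
  ⨅ i : Fin (n + 1), (X.δ i.succ).hom.ker

theorem mem_norm {n : ℕ} {x : X _⦋n + 1⦌} : x ∈ norm X n ↔ IsNorm X x := by
  simp [norm, IsNorm, AddSubgroup.mem_iInf]

variable {X}

theorem PInfty_apply_of_norm {n : ℕ} {x : X _⦋n + 1⦌} (hx : IsNorm X x) :
    (PInfty (X := X)).f (n + 1) x = x := by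
  let ι : AddCommGrpCat.of (norm X n) ⟶ X _⦋n + 1⦌ := AddCommGrpCat.ofHom (norm X n).subtype
  have hv : HigherFacesVanish (n + 1) ι := fun j _ => by
    ext ⟨y, hy⟩
    exact (mem_norm X).1 hy j
  have := ConcreteCategory.congr_hom hv.comp_P_eq_self ⟨x, (mem_norm X).2 hx⟩
  rw [PInfty_f]
  exact this

theorem isNorm_PInfty {n : ℕ} (x : X _⦋n + 1⦌) : IsNorm X ((PInfty (X := X)).f (n + 1) x) := fun i =>
  ConcreteCategory.congr_hom (HigherFacesVanish.of_P (n + 1) n i (by omega)) x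

theorem sum_apply {A B : AddCommGrpCat.{u}} {ι : Type*} (s : Finset ι) (g : ι → (A ⟶ B)) (a : A) :
    (∑ i ∈ s, g i) a = ∑ i ∈ s, g i a := by
  classical
  induction s using Finset.induction_on with
  | empty => rfl
  | insert i s hi ih => rw [Finset.sum_insert hi, Finset.sum_insert hi, ← ih]; rfl

theorem d_PInfty_apply {n : ℕ} (x : X _⦋n + 1⦌) :
    ((alternatingFaceMapComplex AddCommGrpCat.{u}).obj X).d (n + 1) n ((PInfty (X := X)).f (n + 1) x) =
      (PInfty (X := X)).f n (((alternatingFaceMapComplex AddCommGrpCat.{u}).obj X).d (n + 1) n x) :=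
  ConcreteCategory.congr_hom ((PInfty (X := X)).comm (n + 1) n) x

theorem d_apply {n : ℕ} (x : X _⦋n + 1⦌) :
    ((alternatingFaceMapComplex AddCommGrpCat.{u}).obj X).d (n + 1) n x =
      ∑ i : Fin (n + 2), (-1 : ℤ) ^ (i : ℕ) • X.δ i x := by
  rw [alternatingFaceMapComplex_obj_d, AlternatingFaceMapComplex.objD]
  rw [sum_apply]
  rfl

theorem d_of_norm {n : ℕ} {x : X _⦋n + 1⦌} (hx : IsNorm X x) :
    ((alternatingFaceMapComplex AddCommGrpCat.{u}).obj X).d (n + 1) n x = X.δ 0 x := by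
  rw [d_apply, Fin.sum_univ_succ]
  simp [show ∀ i : Fin (n + 1), X.δ i.succ x = 0 from hx]

theorem cycle_of_sphere {n : ℕ} {x : X _⦋n⦌} (hx : IsSphere X x) :
    ((alternatingFaceMapComplex AddCommGrpCat.{u}).obj X).d n ((ComplexShape.down ℕ).next n) x = 0 := by
  cases n with
  | zero =>
    rw [HomologicalComplex.shape _ _ _ (by simp)]
    rfl
  | succ n =>
    rw [show (ComplexShape.down ℕ).next (n + 1) = n by simp]
    exact (d_of_norm (fun i => hx i.succ)).trans (hx 0)

/-- A cycle is a sphere up to a boundary. -/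
theorem exists_sphere {n : ℕ} {x : X _⦋n⦌}
    (hx : ((alternatingFaceMapComplex AddCommGrpCat.{u}).obj X).d n ((ComplexShape.down ℕ).next n) x = 0) :
    ∃ (z : X _⦋n⦌) (b : X _⦋n + 1⦌), IsSphere X z ∧
      ((alternatingFaceMapComplex AddCommGrpCat.{u}).obj X).d (n + 1) n b = z - x := by
  cases n with
  | zero => exact ⟨x, 0, trivial, by rw [map_zero, sub_self]⟩
  | succ n =>
    rw [show (ComplexShape.down ℕ).next (n + 1) = n by simp] at hx
    let A := (alternatingFaceMapComplex AddCommGrpCat.{u}).obj X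
    refine ⟨(PInfty (X := X)).f (n + 1) x, (homotopyPInftyToId X).hom (n + 1) (n + 2) x, ?_, ?_⟩
    · refine Fin.cases ?_ (isNorm_PInfty x)
      rw [← d_of_norm (isNorm_PInfty x), d_PInfty_apply, hx]
      exact map_zero _
    · have h := ConcreteCategory.congr_hom ((homotopyPInftyToId X).comm (n + 1)) x
      rw [dNext_eq _ (show (ComplexShape.down ℕ).Rel (n + 1) n from rfl),
        prevD_eq _ (show (ComplexShape.down ℕ).Rel (n + 2) (n + 1) from rfl)] at h
      simp only [AddCommGrpCat.hom_add, AddMonoidHom.add_apply, ConcreteCategory.comp_apply,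
        HomologicalComplex.id_f, ConcreteCategory.id_apply] at h
      erw [hx, map_zero, zero_add] at h
      exact (eq_sub_iff_add_eq.2 h.symm)

/-- A sphere which is a boundary is the boundary of a normalized element. -/
theorem exists_norm_of_boundary {n : ℕ} {z : X _⦋n⦌} (hz : IsSphere X z) {w : X _⦋n + 1⦌}
    (hw : ((alternatingFaceMapComplex AddCommGrpCat.{u}).obj X).d (n + 1) n w = z) :
    ∃ v : X _⦋n + 1⦌, IsNorm X v ∧ X.δ 0 v = z := by
  refine ⟨(PInfty (X := X)).f (n + 1) w, isNorm_PInfty w, ?_⟩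
  rw [← d_of_norm (isNorm_PInfty w), d_PInfty_apply, hw]
  cases n with
  | zero => rw [PInfty_f_0]; rfl
  | succ n => exact PInfty_apply_of_norm (fun i => hz i.succ)

variable {Y : SimplicialObject AddCommGrpCat.{u}} (f : X ⟶ Y)

theorem alt_map_f (n : ℕ) (x : X _⦋n⦌) :
    ((alternatingFaceMapComplex AddCommGrpCat.{u}).map f).f n x = f.app (op ⦋n⦌) x := rfl

theorem quasiIso_of_spheres
    (hinj : ∀ (n : ℕ) (z : X _⦋n⦌), IsSphere X z → ∀ v : Y _⦋n + 1⦌, IsNorm Y v →
      Y.δ 0 v = f.app (op ⦋n⦌) z → ∃ w : X _⦋n + 1⦌, ((alternatingFaceMapComplex AddCommGrpCat.{u}).obj X).d (n + 1) n w = z)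
    (hsurj : ∀ (n : ℕ) (y : Y _⦋n⦌), IsSphere Y y → ∃ (z : X _⦋n⦌) (b : Y _⦋n + 1⦌), IsSphere X z ∧
      ((alternatingFaceMapComplex AddCommGrpCat.{u}).obj Y).d (n + 1) n b = f.app (op ⦋n⦌) z - y) :
    QuasiIso ((alternatingFaceMapComplex AddCommGrpCat.{u}).map f) := by
  let φ := (alternatingFaceMapComplex AddCommGrpCat.{u}).map f
  have hφ : ∀ (n : ℕ) (b : X _⦋n + 1⦌), ((alternatingFaceMapComplex AddCommGrpCat.{u}).obj Y).d (n + 1) n (φ.f (n + 1) b) =
      φ.f n (((alternatingFaceMapComplex AddCommGrpCat.{u}).obj X).d (n + 1) n b) := fun n b => by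
    rw [← ConcreteCategory.comp_apply, ← ConcreteCategory.comp_apply, φ.comm]
  have hsph : ∀ (n : ℕ) (z : X _⦋n⦌), IsSphere X z → IsSphere Y (f.app (op ⦋n⦌) z) := fun n z hz => by
    cases n with
    | zero => trivial
    | succ n =>
      intro i
      exact (NatTrans.naturality_apply f (SimplexCategory.δ i).op z).symm.trans ((congrArg _ (hz i)).trans (map_zero _))
  refine quasiIso_of_elements _ (fun n x hx w hw => ?_) (fun n y hy => ?_)
  · obtain ⟨z, b, hz, hb⟩ := exists_sphere hx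
    obtain ⟨v, hv, hv0⟩ := exists_norm_of_boundary (hsph n z hz) (w := φ.f (n + 1) b + w)
      (by rw [map_add, hφ, hb, hw, map_sub]; exact sub_add_cancel _ _)
    obtain ⟨a, ha⟩ := hinj n z hz v hv hv0
    exact ⟨a - b, by rw [map_sub, ha, hb, sub_sub_cancel]⟩
  · obtain ⟨z', b', hz', hb'⟩ := exists_sphere hy
    obtain ⟨z, b, hz, hb⟩ := hsurj n z' hz'
    refine ⟨z, cycle_of_sphere hz, b + b', ?_⟩
    rw [map_add, hb, hb']
    exact sub_add_sub_cancel _ _ _

theorem boundary_of_quasiIso [QuasiIso ((alternatingFaceMapComplex AddCommGrpCat.{u}).map f)] {n : ℕ}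
    {z : X _⦋n⦌} (hz : IsSphere X z) {v : Y _⦋n + 1⦌} (hv : IsNorm Y v) (h : Y.δ 0 v = f.app (op ⦋n⦌) z) :
    ∃ w : X _⦋n + 1⦌, IsNorm X w ∧ X.δ 0 w = z := by
  obtain ⟨a, ha⟩ := injective_of_quasiIso ((alternatingFaceMapComplex AddCommGrpCat.{u}).map f)
    (cycle_of_sphere hz) (w := v) ((d_of_norm hv).trans h)
  exact exists_norm_of_boundary hz ha

theorem sphere_lift_of_quasiIso [QuasiIso ((alternatingFaceMapComplex AddCommGrpCat.{u}).map f)] {n : ℕ}
    {y : Y _⦋n⦌} (hy : IsSphere Y y) :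
    ∃ (z : X _⦋n⦌) (b : Y _⦋n + 1⦌), IsSphere X z ∧ IsNorm Y b ∧ Y.δ 0 b = f.app (op ⦋n⦌) z - y := by
  obtain ⟨x, hx, b, hb⟩ := surjective_of_quasiIso ((alternatingFaceMapComplex AddCommGrpCat.{u}).map f)
    (cycle_of_sphere hy)
  obtain ⟨z, b', hz, hb'⟩ := exists_sphere hx
  have hs : IsSphere Y (f.app (op ⦋n⦌) z - y) := by
    cases n with
    | zero => trivial
    | succ n =>
      intro i
      rw [map_sub, hy i, sub_zero]
      exact (NatTrans.naturality_apply f (SimplexCategory.δ i).op z).symm.trans ((congrArg _ (hz i)).trans (map_zero _))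
  obtain ⟨v, hv, hv0⟩ := exists_norm_of_boundary hs
    (w := b + ((alternatingFaceMapComplex AddCommGrpCat.{u}).map f).f (n + 1) b')
    (by
      rw [map_add, hb, ← ConcreteCategory.comp_apply, HomologicalComplex.Hom.comm, ConcreteCategory.comp_apply,
        hb', map_sub]
      change f.app _ x - y + (f.app _ z - f.app _ x) = f.app _ z - y
      abel)
  exact ⟨z, v, hz, hv, hv0⟩

end GrothLib.SimpGrp
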