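import Groth.Agent.Lib.SimpGrp.Normalized
import Groth.Agent.Lib.SimpGrp.Moore
import Mathlib.Algebra.Category.Grp.EquivalenceGroupAddGroup
import Mathlib.AlgebraicTopology.SimplicialSet.CategoryWithFibrations

/-!
# Surjective quasi-isomorphisms of simplicial abelian groups are trivial fibrations
-/

set_option autoImplicit false

universe u

open CategoryTheory CategoryTheory.Limits Opposite Simplicial AlgebraicTopology

namespace GrothLib.SimpGrp

variable {X Y : SimplicialObject AddCommGrpCat.{u}} (f : X ⟶ Y)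

theorem addDd {A : SimplicialObject AddCommGrpCat.{u}} {m : ℕ} {a b : Fin (m + 2)} (h : a ≤ b) (w : A _⦋m + 2⦌) :
    A.δ a (A.δ b.succ w) = A.δ b (A.δ a.castSucc w) :=
  ConcreteCategory.congr_hom (A.δ_comp_δ h) w

theorem app_δ {n : ℕ} (i : Fin (n + 2)) (x : X _⦋n + 1⦌) :
    f.app (op ⦋n⦌) (X.δ i x) = Y.δ i (f.app (op ⦋n + 1⦌) x) :=
  NatTrans.naturality_apply f (SimplexCategory.δ i).op x

/-- The functor to groups, written multiplicatively. -/
noncomputable abbrev toG : AddCommGrpCat.{u} ⥤ GrpCat.{u} :=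
  AddCommGrpCat.toCommGrp ⋙ forget₂ CommGrpCat.{u} GrpCat.{u}

theorem exists_filler_ker {n : ℕ} (e : Fin (n + 2) → X _⦋n⦌) (he : ∀ j, j ≠ 0 → f.app (op ⦋n⦌) (e j) = 0)
    (hc : ∀ (m : ℕ) (h : m + 1 = n) (a b : Fin (m + 2)),
      a ≤ b → (a.castSucc.cast (by omega) : Fin (n + 2)) ≠ 0 → (b.succ.cast (by omega) : Fin (n + 2)) ≠ 0 →
      X.δ a (h ▸ e (b.succ.cast (by omega))) = X.δ b (h ▸ e (a.castSucc.cast (by omega)))) :
    ∃ w : X _⦋n + 1⦌, f.app (op ⦋n + 1⦌) w = 0 ∧ ∀ j, j ≠ 0 → X.δ j w = e j := by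
  obtain ⟨w, hw, h⟩ := exists_filler (X := ((SimplicialObject.whiskering _ _).obj toG).obj X)
    (stable_ker (((SimplicialObject.whiskering _ _).obj toG).map f)) 0 e he hc
  exact ⟨w, hw, h⟩

theorem exists_norm_lift (hf : ∀ n : SimplexCategoryᵒᵖ, Function.Surjective (f.app n)) {n : ℕ}
    {b : Y _⦋n + 1⦌} (hb : IsNorm Y b) :
    ∃ B : X _⦋n + 1⦌, IsNorm X B ∧ f.app (op ⦋n + 1⦌) B = b := by
  obtain ⟨B₀, hB₀⟩ := hf _ b
  obtain ⟨w, hw, hwd⟩ := exists_filler_ker f (fun j => - X.δ j B₀) (fun j hj => by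
      obtain ⟨i, rfl⟩ := Fin.exists_succ_eq_of_ne_zero hj
      rw [map_neg, app_δ, hB₀, hb i, neg_zero])
    (by
      rintro m rfl a c hac - -
      simp only [Fin.cast_eq_self, map_neg, addDd hac])
  exact ⟨B₀ + w, fun i => by rw [map_add, hwd _ (Fin.succ_ne_zero i), add_neg_cancel],
    by rw [map_add, hB₀, hw, add_zero]⟩

theorem exists_correction (hf : ∀ n : SimplexCategoryᵒᵖ, Function.Surjective (f.app n))
    [QuasiIso ((alternatingFaceMapComplex AddCommGrpCat.{u}).map f)] {m : ℕ}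
    {u : X _⦋m⦌} (hu : IsSphere X u) (hfu : f.app (op ⦋m⦌) u = 0) :
    ∃ c : X _⦋m + 1⦌, f.app (op ⦋m + 1⦌) c = 0 ∧ IsNorm X c ∧ X.δ 0 c = u := by
  obtain ⟨c, hc, hc0⟩ := boundary_of_quasiIso f hu (v := 0) (fun i => map_zero _) (by rw [map_zero, hfu])
  have hs : IsSphere Y (f.app (op ⦋m + 1⦌) c) := by
    refine Fin.cases ?_ (fun i => ?_)
    · rw [← app_δ, hc0, hfu]
    · rw [← app_δ, hc i, map_zero]
  obtain ⟨z, b, hz, hb, hb0⟩ := sphere_lift_of_quasiIso f hs
  obtain ⟨B, hB, hfB⟩ := exists_norm_lift f hf hb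
  refine ⟨c - z + X.δ 0 B, ?_, fun i => ?_, ?_⟩
  · rw [map_add, map_sub, app_δ, hfB, hb0]
    abel
  · rw [map_add, map_sub, hc i, hz i.succ, sub_zero, zero_add, ← Fin.castSucc_zero]
    have e := addDd (A := X) (Fin.zero_le i.succ) B
    rw [hB i.succ, map_zero] at e
    exact e.symm
  · rw [map_add, map_sub, hc0, hz 0, sub_zero, add_eq_left]
    have e := addDd (A := X) (le_refl (0 : Fin (m + 2))) B
    rw [hB 0, map_zero, Fin.castSucc_zero] at e
    exact e.symm

theorem hasLiftingProperty_boundary (hf : ∀ n : SimplexCategoryᵒᵖ, Function.Surjective (f.app n))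
    [QuasiIso ((alternatingFaceMapComplex AddCommGrpCat.{u}).map f)] (n : ℕ) :
    HasLiftingProperty (SSet.boundary.{u} n).ι (Functor.whiskerRight f (forget AddCommGrpCat.{u})) := by
  refine ⟨fun {a b} sq => ?_⟩
  let y : Y _⦋n⦌ := SSet.yonedaEquiv b
  obtain _ | m := n
  · obtain ⟨x, hx⟩ := hf _ y
    refine CommSq.HasLift.mk' ⟨SSet.yonedaEquiv.symm x, SSet.boundary.hom_ext₀, ?_⟩
    apply SSet.yonedaEquiv.injective
    rw [SSet.yonedaEquiv_symm_comp, Equiv.apply_symm_apply]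
    exact hx
  obtain ⟨x₀, hx₀⟩ := hf _ y
  let v : Fin (m + 2) → X _⦋m⦌ := fun j => a.app (op ⦋m⦌) (SSet.yonedaEquiv (SSet.boundary.ι j))
  have hv : ∀ j, f.app (op ⦋m⦌) (v j) = Y.δ j y := by
    intro j
    refine (ConcreteCategory.congr_hom (NatTrans.congr_app sq.w (op ⦋m⦌)) (SSet.yonedaEquiv (SSet.boundary.ι j))).trans ?_
    refine (congrArg (b.app (op ⦋m⦌)) ?_).trans
      (NatTrans.naturality_apply b (SimplexCategory.δ j).op (SSet.stdSimplex.objEquiv.symm (𝟙 _)))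
    apply SSet.stdSimplex.objEquiv.injective
    rfl
  let e : Fin (m + 2) → X _⦋m⦌ := fun j => v j - X.δ j x₀
  have hec : ∀ (p : ℕ) (h : p + 1 = m) (a' b' : Fin (p + 2)), a' ≤ b' →
      X.δ a' (h ▸ e (b'.succ.cast (by omega))) = X.δ b' (h ▸ e (a'.castSucc.cast (by omega))) := by
    rintro p rfl p' q hpq
    simp only [Fin.cast_eq_self, e, map_sub, addDd hpq]
    congr 1
    refine (NatTrans.naturality_apply a (SimplexCategory.δ p').op _).symm.trans
      (Eq.trans ?_ (NatTrans.naturality_apply a (SimplexCategory.δ q).op _))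
    refine congrArg (a.app _) (Subtype.ext ?_)
    apply SSet.stdSimplex.objEquiv.injective
    exact SimplexCategory.δ_comp_δ hpq
  have hfe : ∀ j, f.app (op ⦋m⦌) (e j) = 0 := fun j => by
    rw [map_sub, hv, app_δ, hx₀, sub_self]
  obtain ⟨w, hw, hwd⟩ := exists_filler_ker f e (fun j _ => hfe j)
    (fun p h a' b' hab _ _ => hec p h a' b' hab)
  have hfu : f.app (op ⦋m⦌) (e 0 - X.δ 0 w) = 0 := by
    rw [map_sub, hfe, app_δ, hw, map_zero, sub_zero]
  have hu : IsSphere X (e 0 - X.δ 0 w) := by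
    cases m with
    | zero => trivial
    | succ p =>
      intro i
      have h1 := hec p rfl 0 i (Fin.zero_le i)
      simp only [Fin.cast_eq_self, Fin.castSucc_zero] at h1
      rw [map_sub, ← h1, ← hwd _ (Fin.succ_ne_zero i), addDd (Fin.zero_le i), Fin.castSucc_zero, sub_self]
  obtain ⟨c, hfc, hc, hc0⟩ := exists_correction f hf hu hfu
  refine CommSq.HasLift.mk' ⟨SSet.yonedaEquiv.symm (x₀ + w + c : X _⦋m + 1⦌), SSet.boundary.hom_ext (fun j => ?_), ?_⟩
  · apply SSet.yonedaEquiv.injective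
    refine Eq.trans ?_ (show X.δ j (x₀ + w + c) = v j by
      rw [map_add, map_add]
      rcases eq_or_ne j 0 with rfl | hj
      · rw [hc0]; simp only [e]; abel
      · obtain ⟨i, rfl⟩ := Fin.exists_succ_eq_of_ne_zero hj
        rw [hc i, hwd _ hj, add_zero]; simp only [e]; abel)
    rfl
  · apply SSet.yonedaEquiv.injective
    rw [SSet.yonedaEquiv_symm_comp, Equiv.apply_symm_apply]
    change f.app _ (x₀ + w + c : X _⦋m + 1⦌) = y
    rw [map_add, map_add, hx₀, hw, hfc, add_zero, add_zero]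

end GrothLib.SimpGrp
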